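import Cfsg.Agent.SchurCert.M23Data
import Cfsg.Agent.SchurCert.Trivial
import Cfsg.Agent.Golay.Mathieu

set_option autoImplicit false

/-!
The Schur multiplier of M23 is trivial.
-/

namespace Cfsg.Agent.SchurCert

open Cfsg.Agent.Golay

theorem m23_valid :
    (m23TwoGens ++ m23TwoFus ++ m23ThreeGens ++ m23ThreeFus).all validPair = true := by
  decide +kernel

theorem m23_tested : ∀ x ∈ m23TwoGens ++ m23TwoFus ++ m23ThreeGens ++ m23ThreeFus,
    PreservesRows (codeFun x.1) ∧ codeFun x.1 none = none := by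
  decide +kernel

theorem m23_mem : ∀ x ∈ m23TwoGens ++ m23TwoFus ++ m23ThreeGens ++ m23ThreeFus,
    permOfPair x ∈ Cfsg.Spor.M23 := by
  intro x hx
  have hv := List.all_eq_true.1 m23_valid x hx
  have h := m23_tested x hx
  exact ⟨permOfPair_mem_M24 hv h.1, MulAction.mem_stabilizer_iff.2 ((permOfPair_apply hv _).trans h.2)⟩

theorem m23_card : Nat.card Cfsg.Spor.M23 = 10200960 := (card_inf_stabilizer_point none)

theorem m23_not_two_dvd : ¬ 2 ∣ Nat.card (CentralExt.schurMult Cfsg.Spor.M23) := by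
  have hv : ∀ L : List (ℕ × ℕ),
      (∀ x ∈ L, x ∈ m23TwoGens ++ m23TwoFus ++ m23ThreeGens ++ m23ThreeFus) →
      ∀ i, (permCode Cfsg.Spor.M23).enc (elemAt Cfsg.Spor.M23 L i) = (L.map Prod.fst).getD i permOne :=
    fun L hL => enc_elemAt (List.all_eq_true.2 fun x hx => List.all_eq_true.1 m23_valid x (hL x hx))
      fun x hx => m23_mem x (hL x hx)
  haveI : Fact (Nat.Prime 2) := ⟨Nat.prime_two⟩
  have hgen : ∀ i < m23TwoCert.P.n, (permCode Cfsg.Spor.M23).enc (elemAt Cfsg.Spor.M23 m23TwoGens i) =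
      m23TwoCert.gens.getD i (permCode Cfsg.Spor.M23).one :=
    fun i _ => hv _ (fun x hx => List.mem_append_left _ (List.mem_append_left _
      (List.mem_append_left _ hx))) i
  have hchk := m23Two_check
  simp only [Cert.check, Bool.and_eq_true] at hchk
  obtain ⟨-, hcard⟩ := card_initGroup_of_groupOK (permCode Cfsg.Spor.M23) m23TwoCert Nat.prime_two
    (elemAt Cfsg.Spor.M23 m23TwoGens) hgen hchk.1.1.1 hchk.1.1.2
  refine not_dvd_schurMult_of_cert (permCode Cfsg.Spor.M23) m23TwoCert 2 rfl (elemAt Cfsg.Spor.M23 m23TwoGens)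
    (elemAt Cfsg.Spor.M23 m23TwoFus) hgen
    (fun i => hv _ (fun x hx => List.mem_append_left _ (List.mem_append_left _
      (List.mem_append_right _ hx))) i) ?_ m23Two_check
  rw [index_initGroup m23_card hcard (m := 79695) (by decide +kernel)]
  norm_num

theorem m23_not_three_dvd : ¬ 3 ∣ Nat.card (CentralExt.schurMult Cfsg.Spor.M23) := by
  have hv : ∀ L : List (ℕ × ℕ),
      (∀ x ∈ L, x ∈ m23TwoGens ++ m23TwoFus ++ m23ThreeGens ++ m23ThreeFus) →
      ∀ i, (permCode Cfsg.Spor.M23).enc (elemAt Cfsg.Spor.M23 L i) = (L.map Prod.fst).getD i permOne :=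
    fun L hL => enc_elemAt (List.all_eq_true.2 fun x hx => List.all_eq_true.1 m23_valid x (hL x hx))
      fun x hx => m23_mem x (hL x hx)
  haveI : Fact (Nat.Prime 3) := ⟨Nat.prime_three⟩
  have hgen : ∀ i < m23ThreeCert.P.n, (permCode Cfsg.Spor.M23).enc (elemAt Cfsg.Spor.M23 m23ThreeGens i) =
      m23ThreeCert.gens.getD i (permCode Cfsg.Spor.M23).one :=
    fun i _ => hv _ (fun x hx => List.mem_append_left _ (List.mem_append_right _ hx)) i
  have hchk := m23Three_check
  simp only [Cert.check, Bool.and_eq_true] at hchk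
  obtain ⟨-, hcard⟩ := card_initGroup_of_groupOK (permCode Cfsg.Spor.M23) m23ThreeCert Nat.prime_three
    (elemAt Cfsg.Spor.M23 m23ThreeGens) hgen hchk.1.1.1 hchk.1.1.2
  refine not_dvd_schurMult_of_cert (permCode Cfsg.Spor.M23) m23ThreeCert 3 rfl (elemAt Cfsg.Spor.M23 m23ThreeGens)
    (elemAt Cfsg.Spor.M23 m23ThreeFus) hgen
    (fun i => hv _ (fun x hx => List.mem_append_right _ hx) i) ?_ m23Three_check
  rw [index_initGroup m23_card hcard (m := 1133440) (by decide +kernel)]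
  norm_num

theorem m23_hasTrivialMultiplier : Cfsg.HasCyclicSchurMultiplier Cfsg.Spor.M23 1 := by
  refine CentralExt.hasCyclicSchurMultiplier_one_of_not_dvd fun p hp => ?_
  haveI : Fact p.Prime := ⟨hp⟩
  rcases eq_or_ne p 2 with rfl | h2
  · exact m23_not_two_dvd
  rcases eq_or_ne p 3 with rfl | h3
  · exact m23_not_three_dvd
  refine not_dvd_schurMult_of_sq_not_dvd p ?_
  rw [m23_card, show 10200960 = (10200960 / 8855) * 8855 by norm_num]
  intro h
  have hco : Nat.Coprime (p ^ 2) (10200960 / 8855) := by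
    refine Nat.Coprime.pow_left 2 (hp.coprime_iff_not_dvd.2 fun hd => ?_)
    have hdiv : p ∣ 2 ^ 20 * 3 ^ 5 := dvd_trans hd (by norm_num)
    rcases hp.dvd_mul.1 hdiv with h' | h'
    · exact h2 ((Nat.prime_dvd_prime_iff_eq hp Nat.prime_two).1 (hp.dvd_of_dvd_pow h'))
    · exact h3 ((Nat.prime_dvd_prime_iff_eq hp Nat.prime_three).1 (hp.dvd_of_dvd_pow h'))
  have h' := hco.dvd_of_dvd_mul_left h
  have hle : p ^ 2 ≤ 8855 := Nat.le_of_dvd (by norm_num) h'
  have hp94 : p < 95 := by nlinarith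
  have hall : ∀ q < 95, 2 ≤ q → ¬ q ^ 2 ∣ 8855 := by decide +kernel
  exact hall p hp94 hp.two_le h'

end Cfsg.Agent.SchurCert
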