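import Cfsg.Agent.SporB.J1Group
import Cfsg.Agent.SchurCert.Trivial

set_option autoImplicit false

/-!
Natural number codes for the elements of the first Janko group, with computable multiplication.
-/

namespace Cfsg.Agent.SporB.J1

local notation "Mat" => Matrix (Fin 7) (Fin 7) (ZMod 11)

/-- The code of a packed row. -/
def encVN (v : V7) : ℕ :=
  v.a + v.b * 16 + v.c * 256 + v.d * 4096 + v.e * 65536 + v.f * 1048576 + v.g * 16777216

/-- The code of a packed matrix. -/
def encN (A : M7) : ℕ :=
  encVN A.a + encVN A.b * 268435456 + encVN A.c * 72057594037927936 + encVN A.d * 19342813113834066795298816 + encVN A.e * 5192296858534827628530496329220096 + encVN A.f * 1393796574908163946345982392040522594123776 + encVN A.g * 374144419156711147060143317175368453031918731001856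

/-- The multiplication of codes. -/
def cmul (a b : ℕ) : ℕ := encN (mul (dec a) (dec b))

theorem encV_lt (v : Fin 7 → ZMod 11) : encV v < 268435456 := by
  have h : ∀ i, (v i).val < 11 := fun i => ZMod.val_lt _
  have := h 0; have := h 1; have := h 2; have := h 3; have := h 4; have := h 5; have := h 6
  unfold encV
  omega

theorem decV_encV (v : Fin 7 → ZMod 11) (r : ℕ) :
    decV (encV v + r * 268435456) =
      ⟨(v 0).val, (v 1).val, (v 2).val, (v 3).val, (v 4).val, (v 5).val, (v 6).val⟩ := by
  have h : ∀ i, (v i).val < 11 := fun i => ZMod.val_lt _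
  have := h 0; have := h 1; have := h 2; have := h 3; have := h 4; have := h 5; have := h 6
  have land15 : ∀ n : ℕ, n &&& 15 = n % 16 := fun n => Nat.and_two_pow_sub_one_eq_mod n 4
  simp only [decV, encV, land15, Nat.shiftRight_eq_div_pow, Nat.reducePow, V7.mk.injEq]
  omega

theorem toV_decV_encV (v : Fin 7 → ZMod 11) (r : ℕ) : toV (decV (encV v + r * 268435456)) = v := by
  rw [decV_encV]
  ext i
  fin_cases i <;> simp [toV]

theorem shiftRight_add (a r k : ℕ) (ha : a < 2 ^ k) : (a + r * 2 ^ k) >>> k = r := by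
  rw [Nat.shiftRight_eq_div_pow, Nat.add_mul_div_right _ _ (Nat.two_pow_pos k),
    Nat.div_eq_of_lt ha, zero_add]

/-- Decoding inverts encoding. -/
theorem toM_dec_enc (A : Mat) : toM (dec (enc A)) = A := by
  have step : ∀ (v : Fin 7 → ZMod 11) (r : ℕ), (encV v + r * 268435456) >>> 28 = r :=
    fun v r => shiftRight_add _ r 28 (encV_lt v)
  have hn : enc A = encV (A 0) + (encV (A 1) + (encV (A 2) + (encV (A 3) + (encV (A 4) +
      (encV (A 5) + (encV (A 6) + 0 * 268435456) * 268435456) * 268435456) * 268435456) *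
      268435456) * 268435456) * 268435456 := by
    simp only [enc]; ring
  have hs : ∀ (n k : ℕ), n >>> (28 + k) = (n >>> 28) >>> k := fun n k => Nat.shiftRight_add n 28 k
  ext i j
  rw [hn, dec, show (56 : ℕ) = 28 + 28 from rfl, show (84 : ℕ) = 28 + (28 + 28) from rfl,
    show (112 : ℕ) = 28 + (28 + (28 + 28)) from rfl,
    show (140 : ℕ) = 28 + (28 + (28 + (28 + 28))) from rfl,
    show (168 : ℕ) = 28 + (28 + (28 + (28 + (28 + 28)))) from rfl]
  simp only [hs, step]
  fin_cases i <;> exact congrFun (toV_decV_encV _ _) j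

theorem toV_val {v : Fin 7 → ZMod 11} {w : V7} (h : toV w = v) (hw : w.a < 11 ∧ w.b < 11 ∧ w.c < 11 ∧ w.d < 11 ∧ w.e < 11 ∧ w.f < 11 ∧ w.g < 11) :
    encV v = encVN w := by
  subst h
  obtain ⟨h0, h1, h2, h3, h4, h5, h6⟩ := hw
  simp [encV, encVN, toV, ZMod.val_natCast, Nat.mod_eq_of_lt h0, Nat.mod_eq_of_lt h1,
    Nat.mod_eq_of_lt h2, Nat.mod_eq_of_lt h3, Nat.mod_eq_of_lt h4, Nat.mod_eq_of_lt h5,
    Nat.mod_eq_of_lt h6]

theorem enc_toM_mul (A B : M7) : enc (toM (mul A B)) = encN (mul A B) := by
  have hb : ∀ u : V7, (rowMul u B).a < 11 ∧ (rowMul u B).b < 11 ∧ (rowMul u B).c < 11 ∧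
      (rowMul u B).d < 11 ∧ (rowMul u B).e < 11 ∧ (rowMul u B).f < 11 ∧ (rowMul u B).g < 11 := by
    intro u
    simp only [rowMul]
    refine ⟨?_, ?_, ?_, ?_, ?_, ?_, ?_⟩ <;> exact Nat.mod_lt _ (by norm_num)
  have key : ∀ (i : Fin 7) (u : V7), toM (mul A B) i = toV (rowMul u B) →
      encV (toM (mul A B) i) = encVN (rowMul u B) :=
    fun i u h => toV_val h.symm (hb u)
  simp only [enc, encN, key 0 A.a rfl, key 1 A.b rfl, key 2 A.c rfl, key 3 A.d rfl,
    key 4 A.e rfl, key 5 A.f rfl, key 6 A.g rfl]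
  rfl

theorem enc_mat_mul (A B : Mat) : enc (A * B) = cmul (enc A) (enc B) := by
  rw [cmul, ← enc_toM_mul, toM_mul, toM_dec_enc, toM_dec_enc]

/-- The codes of the elements of the first Janko group. -/
def j1Code : SchurCert.Code ↥Cfsg.Spor.J1 where
  mul := cmul
  one := 6277101736848182401506974708411517874814724153223283736577
  enc g := enc ((g : GL (Fin 7) (ZMod 11)) : Mat)
  enc_one := by
    show enc (1 : Mat) = _
    decide +kernel
  enc_mul a b := enc_mat_mul _ _
  enc_inj := fun a b h => val_inj (((toM_dec_enc _).symm.trans (congrArg (fun c => toM (dec c)) h)).trans (toM_dec_enc _))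

/-- A witness in the table is an element of the group with the code of the witness. -/
theorem exists_enc_wit {w : Wit} (h : w.ok = true)
    (hc : Nat.beq (enc (toM (dec w.code))) w.code = true) :
    ∃ g : Cfsg.Spor.J1, j1Code.enc g = w.code := by
  obtain ⟨g, hg⟩ := wit_mem h
  exact ⟨g, by show enc _ = _; rw [hg]; exact beq_of hc⟩

end Cfsg.Agent.SporB.J1
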