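import Cfsg.Agent.SchurCert.GolayPerm

set_option autoImplicit false

/-!
Certificates for the Schur multiplier of M23 at the primes 2 and 3.
-/

namespace Cfsg.Agent.SchurCert


/-- Generators with their inverses. -/
def m23TwoGens : List (ℕ × ℕ) :=
     [(0xbb2a76ca2e0c27659509a1942191e0, 0xbb2a76ca2e0c27659509a1942191e0),
      (0xbb00d3c9657aa968b90999a0418835, 0xbb00d3c9657aa968b90999a0418835),
      (0xba1676c80a79669ac196a19c418831, 0xba1676c80a79669ac196a19c418831),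
      (0xbb01051a3479cb65cd28749a219035, 0xbb01051a3479cb65cd28749a219035),
      (0xba2b3a4a25128e95b99669a011bc80, 0xba2b3a4a25128e95b99669a011bc80),
      (0xb86a584a33635cf59c4451a881a6c0, 0xb86a584a33635cf59c4451a881a6c0),
      (0xb95627c8096a02aad9d02199419e71, 0xba9640c8089a5e5ab20e11ac71d1b1)]

/-- Fusing elements with their inverses. -/
def m23TwoFus : List (ℕ × ℕ) :=
     [(0xbb58230ec974494aa20593d730a8e0, 0xbc56c21dc933ed528a0a0cd0d95060),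
      (0xb94f3249ee3244ca42ca6d5005c461, 0xba4cba484a8c0ec1a1c5abed30b404),
      (0xbbccd4c868850eead84a6466559020, 0xba96e2c8cfb32871a2706d4828a420),
      (0xb81d62c16c491551b42815272899e7, 0xbd186290720d5508b5e800a6e59d36),
      (0xbb8e3ac6d44be44531a8300b05cc41, 0xbc670136447592a1ade8a9caca0406),
      (0xba2b49c962284ec8913668dea341c0, 0xba2b49c962284ec8913668dea341c0)]

/-- The certificate. -/
def m23TwoCert : Cert where
  P :=
    { p := 2
      n := 7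
      powW := [[], [], [], [], [], [], [0]]
      cjW := [[], [[0]], [[0], [1]], [[0], [1], [1, 2]], [[0], [1], [2], [0, 3]], [[0], [0, 1], [2, 4], [0, 3], [4]], [[0], [0, 1, 4], [0, 2], [0, 1, 3, 5], [4], [4, 5]]] }
  gens := m23TwoGens.map Prod.fst
  gs := m23TwoFus.map Prod.fst
  rows := [
    .assoc 6 6 6,
    .assoc 6 6 5,
    .assoc 6 6 4,
    .assoc 6 6 3,
    .assoc 6 6 2,
    .assoc 6 6 1,
    .assoc 6 5 5,
    .assoc 6 5 3,
    .assoc 6 5 2,
    .assoc 6 5 1,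
    .assoc 6 4 3,
    .assoc 6 3 3,
    .assoc 6 3 2,
    .assoc 6 3 1,
    .assoc 6 2 1,
    .assoc 5 3 3,
    .assoc 3 3 2,
    .assoc 3 2 2,
    .fus 0 [[1, 2, 4]] [[1]] [0, 0] [],
    .fus 1 [[2]] [[0]] [0, 0] [],
    .fus 2 [[0, 4, 5]] [[0, 4]] [0, 0] [],
    .fus 3 [[0]] [[3, 4, 5]] [0, 0] [],
    .fus 4 [[0, 1, 4]] [[2, 4, 6]] [0, 0] [],
    .fus 5 [[1, 4, 6], [0, 4, 5, 6]] [[0, 2, 4, 5], [1, 5, 6]] [0, 1] [1, 0]]
  beta := [[24], [9], [], [], [27], [9, 24, 25], []]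
  combo := [[0, 1, 2, 5, 9, 10], [4, 6, 10, 14, 17, 18, 19], [1, 2, 5, 7, 9, 10, 13], [0, 1, 2, 5, 9, 10, 19], [1, 2, 4, 5, 9, 10], [4, 6, 10, 14, 18, 19], [1, 5, 6, 9, 11, 13, 15, 16, 21], [0, 1, 2, 5, 9, 10, 15], [4, 6, 10, 14, 16, 17, 18, 19], [], [1, 4, 7, 8, 13, 14], [2], [0, 4, 5, 6, 8, 9, 14], [2, 4, 7, 13, 14], [2, 4, 6, 8, 9, 12, 15, 23], [4, 5, 6, 8, 14, 20], [1, 5, 7, 13], [0, 1, 2, 4, 5, 6, 7, 8, 9, 10, 12, 15, 23], [2, 3, 5, 8, 9, 10, 12, 17, 20], [1, 11, 12, 13, 14, 16, 20, 23], [1, 4, 6, 7, 8, 13, 14], [4, 5, 17, 18, 22], [0], [0, 3, 6, 7, 8, 10, 12, 13, 14, 17, 18, 19, 20, 23], [], [], [1, 4, 5, 8, 14], []]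

theorem m23Two_check : m23TwoCert.check permMul permOne = true := by decide +kernel

/-- Generators with their inverses. -/
def m23ThreeGens : List (ℕ × ℕ) :=
     [(0xbada6126b0b222e7d00c3aa6419432, 0xbbe2a281b05b2a8b1a4e3d0441cc29),
      (0xbbea811a305a5b2b39402326339434, 0xbaea02b230b29a67a5d41c84724c28)]

/-- Fusing elements with their inverses. -/
def m23ThreeFus : List (ℕ × ℕ) :=
     [(0xbb56e1b1f0aa2c98c9469d0e229020, 0xbb5e63a9708d2d2aa58e2a06299020),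
      (0xbda282a6b0599aa7b2541ba6438820, 0xbda282a6b0599aa7b2541ba6438820),
      (0xb92349baa11c9aa3b0c85a4b678a00, 0xb92349baa11c9aa3b0c85a4b678a00)]

/-- The certificate. -/
def m23ThreeCert : Cert where
  P :=
    { p := 3
      n := 2
      powW := [[], []]
      cjW := [[], [[0]]] }
  gens := m23ThreeGens.map Prod.fst
  gs := m23ThreeFus.map Prod.fst
  rows := [
    .fus 0 [[0, 0, 1, 1]] [[1, 1]] [0, 0, 0] [],
    .fus 1 [[0, 0, 1, 1]] [[0, 1]] [0, 0, 0] [],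
    .fus 2 [[0, 0, 1], [1, 1]] [[0, 1, 1], [1, 1]] [0, 1] [1, 0]]
  beta := [[], []]
  combo := [[0], [0, 0, 1, 1], [2, 2]]

theorem m23Three_check : m23ThreeCert.check permMul permOne = true := by decide +kernel

end Cfsg.Agent.SchurCert
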